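import Mathlib

/-!
Groups with a fixed-point-free automorphism of order three.
-/

set_option autoImplicit false
set_option linter.unusedSectionVars false

namespace Cfsg.FpfThree

open Subgroup
open scoped commutatorElement

variable {T : Type*} [Group T] [Finite T]

/-- A fixed-point-free automorphism whose cube is the identity. -/
structure Fpf (ρ : MulAut T) : Prop where
  cube : ∀ t, ρ (ρ (ρ t)) = t
  fpf : ∀ t, ρ t = t → t = 1

namespace Fpf

variable {ρ : MulAut T} (h : Fpf ρ)
include h

theorem psi_bijective : Function.Bijective fun t => t⁻¹ * ρ t := by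
  refine (Finite.injective_iff_bijective).1 fun a b hab => ?_
  have h1 : ρ (b * a⁻¹) = b * a⁻¹ := by
    have hab' : a⁻¹ * ρ a = b⁻¹ * ρ b := hab
    rw [map_mul, map_inv, show ρ b = b * (a⁻¹ * ρ a) by rw [hab', mul_inv_cancel_left]]
    group
  exact (mul_inv_eq_one.1 (h.fpf _ h1)).symm

theorem norm_eq (t : T) : t * ρ t * ρ (ρ t) = 1 := by
  obtain ⟨d, hd⟩ := (psi_bijective h).2 t
  simp only at hd
  subst hd
  rw [map_mul, map_mul, map_inv, map_inv, h.cube]
  group

theorem commute_rho (t : T) : t * ρ t = ρ t * t := by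
  have h1 := norm_eq h t
  have h2 := norm_eq h t⁻¹
  rw [map_inv, map_inv] at h2
  have h3 : ρ (ρ t) = (t * ρ t)⁻¹ := eq_inv_of_mul_eq_one_right h1
  rw [h3, inv_inv, ← mul_inv_rev] at h2
  exact inv_mul_eq_one.1 h2 |>.symm

/-- The automorphism of an invariant normal quotient is again fixed-point-free. -/
theorem quotient (N : Subgroup T) [N.Normal] (hN : N.map (↑ρ : T →* T) = N) :
    Fpf (QuotientGroup.congr N N ρ hN) := by
  constructor
  · intro q
    obtain ⟨t, rfl⟩ := QuotientGroup.mk_surjective q
    rw [QuotientGroup.congr_mk, QuotientGroup.congr_mk, QuotientGroup.congr_mk, h.cube]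
  · intro q hq
    obtain ⟨t, rfl⟩ := QuotientGroup.mk_surjective q
    rw [QuotientGroup.congr_mk, QuotientGroup.eq] at hq
    rw [QuotientGroup.eq_one_iff]
    have hinv : ∀ n ∈ N, ρ n ∈ N := fun n hn => hN ▸ mem_map_of_mem _ hn
    let f : N → N := fun m => ⟨(m : T)⁻¹ * ρ m, mul_mem (inv_mem m.2) (hinv m m.2)⟩
    have hf : Function.Surjective f := Finite.surjective_of_injective fun a b hab =>
      Subtype.ext ((psi_bijective h).1 (congrArg Subtype.val hab))
    obtain ⟨m, hm⟩ := hf ⟨((ρ t)⁻¹ * t)⁻¹, inv_mem hq⟩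
    have hm' : (m : T)⁻¹ * ρ m = ((ρ t)⁻¹ * t)⁻¹ := congrArg Subtype.val hm
    rw [mul_inv_rev, inv_inv] at hm'
    rw [← (psi_bijective h).1 (hm' : (fun t => t⁻¹ * ρ t) (m : T) = (fun t => t⁻¹ * ρ t) t)]
    exact m.2

theorem center_invariant : (center T).map (↑ρ : T →* T) = center T :=
  Subgroup.characteristic_iff_map_eq.1 inferInstance ρ

/-- At most four cosets of the centre: commutative. -/
theorem comm_of_index_le (hi : (center T).index ≤ 4) : ∀ a b : T, a * b = b * a := by
  classical
  intro a b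
  by_cases ha : a ∈ center T
  · exact ((mem_center_iff.1 ha) b).symm
  have hq := quotient h (center T) (center_invariant h)
  set q : T ⧸ center T := QuotientGroup.mk a with hqa
  set σ := QuotientGroup.congr _ _ ρ (center_invariant h)
  have hq1 : q ≠ 1 := fun e => ha ((QuotientGroup.eq_one_iff _).1 e)
  have e1 : σ q ≠ q := fun e => hq1 (hq.fpf _ e)
  have e2 : σ q ≠ 1 := fun e => hq1 (σ.injective (e.trans (map_one σ).symm))
  have e3 : σ (σ q) ≠ 1 := fun e => e2 (σ.injective (e.trans (map_one σ).symm))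
  have e4 : σ (σ q) ≠ σ q := fun e => e1 (σ.injective e)
  have e5 : σ (σ q) ≠ q := fun e => e1 (by
    have h3 := hq.cube q
    rw [e] at h3
    exact h3)
  haveI := Fintype.ofFinite (T ⧸ center T)
  have hall : (Finset.univ : Finset (T ⧸ center T)) = {1, q, σ q, σ (σ q)} := by
    symm
    refine Finset.eq_of_subset_of_card_le (Finset.subset_univ _) ?_
    rw [Finset.card_insert_of_notMem (by simp [hq1.symm, e2.symm, e3.symm]),
      Finset.card_insert_of_notMem (by simp [e1.symm, e5.symm]), Finset.card_pair e4.symm,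
      Finset.card_univ, ← Nat.card_eq_fintype_card, ← Subgroup.index_eq_card]
    exact hi
  have hc1 : a * ρ a = ρ a * a := commute_rho h a
  have hc2 : a * ρ (ρ a) = ρ (ρ a) * a := by
    have := congrArg (fun x => ρ (ρ x)) hc1
    simp only [map_mul, h.cube] at this
    exact this.symm
  have hb : (QuotientGroup.mk b : T ⧸ center T) ∈ ({1, q, σ q, σ (σ q)} : Finset _) := hall ▸ Finset.mem_univ _
  have key : ∀ c : T, a * c = c * a → (QuotientGroup.mk b : T ⧸ center T) = QuotientGroup.mk c →
      a * b = b * a := by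
    intro c hc e
    rw [QuotientGroup.eq] at e
    have hz := (mem_center_iff.1 e) a
    have hb' : b = c * (b⁻¹ * c)⁻¹ := by group
    have hz' : a * (b⁻¹ * c)⁻¹ = (b⁻¹ * c)⁻¹ * a :=
      (Commute.inv_right (hz : Commute a (b⁻¹ * c))).eq
    rw [hb', ← mul_assoc, hc, mul_assoc, hz', ← mul_assoc]
  simp only [Finset.mem_insert, Finset.mem_singleton] at hb
  rcases hb with e | e | e | e
  · exact key 1 (by simp) e
  · exact key a rfl e
  · exact key (ρ a) hc1 e
  · exact key (ρ (ρ a)) hc2 e

theorem card_mod (hT : Nontrivial T) : 4 ≤ Nat.card T := by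
  classical
  haveI := Fintype.ofFinite T
  obtain ⟨t, ht⟩ := exists_ne (1 : T)
  have e1 : ρ t ≠ t := fun e => ht (h.fpf _ e)
  have e2 : ρ t ≠ 1 := fun e => ht (ρ.injective (e.trans (map_one ρ).symm))
  have e3 : ρ (ρ t) ≠ 1 := fun e => e2 (ρ.injective (e.trans (map_one ρ).symm))
  have e4 : ρ (ρ t) ≠ ρ t := fun e => e1 (ρ.injective e)
  have e5 : ρ (ρ t) ≠ t := fun e => e1 (by
    have h3 := h.cube t
    rw [e] at h3
    exact h3)
  calc 4 = ({1, t, ρ t, ρ (ρ t)} : Finset T).card := by
        rw [Finset.card_insert_of_notMem (by simp [ht.symm, e2.symm, e3.symm]),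
          Finset.card_insert_of_notMem (by simp [e1.symm, e5.symm]), Finset.card_pair e4.symm]
    _ ≤ _ := (Finset.card_le_univ _).trans Nat.card_eq_fintype_card.ge

/-- Restriction to the centre. -/
theorem center_card (hne : center T ≠ ⊥) : 4 ≤ Nat.card (center T) := by
  haveI : Nontrivial (center T) := (Subgroup.nontrivial_iff_ne_bot _).2 hne
  have hinv : ∀ n ∈ center T, ρ n ∈ center T := fun n hn =>
    center_invariant h ▸ mem_map_of_mem _ hn
  let σ : MulAut (center T) := MulEquiv.ofBijective
    (⟨⟨fun z => ⟨ρ z, hinv z z.2⟩, Subtype.ext (map_one ρ)⟩, fun a b => Subtype.ext (map_mul ρ _ _)⟩ :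
      center T →* center T)
    ((Finite.injective_iff_bijective).1 fun a b hab => Subtype.ext (ρ.injective (congrArg Subtype.val hab)))
  have hσ : Fpf σ :=
    ⟨fun z => Subtype.ext (h.cube (z : T)), fun z hz => Subtype.ext (h.fpf _ (congrArg Subtype.val hz))⟩
  exact card_mod hσ inferInstance

/-- Groups of order at most sixteen are commutative. -/
theorem comm_of_card_le (hp : IsPGroup 2 T) (hc : Nat.card T ≤ 16) : ∀ a b : T, a * b = b * a := by
  rcases subsingleton_or_nontrivial T with hs | hs
  · exact fun a b => Subsingleton.elim _ _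
  refine comm_of_index_le h ?_
  haveI : Fact (Nat.Prime 2) := ⟨Nat.prime_two⟩
  have hne : center T ≠ ⊥ := hp.bot_lt_center.ne'
  have h4 := center_card h hne
  have hm := (center T).card_mul_index
  nlinarith

/-- Groups of order sixty-four have class at most two. -/
theorem commutator_central (hp : IsPGroup 2 T) (hc : Nat.card T ≤ 64) (a b : T) : ⁅a, b⁆ ∈ center T := by
  rcases subsingleton_or_nontrivial T with hs | hs
  · rw [Subsingleton.elim ⁅a, b⁆ 1]; exact one_mem _
  haveI : Fact (Nat.Prime 2) := ⟨Nat.prime_two⟩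
  have h4 := center_card h hp.bot_lt_center.ne'
  have hm := (center T).card_mul_index
  have hq := comm_of_card_le (quotient h (center T) (center_invariant h)) (hp.to_quotient _)
    (by rw [← Subgroup.index_eq_card]; nlinarith) (QuotientGroup.mk a) (QuotientGroup.mk b)
  rw [← QuotientGroup.eq_one_iff, ← QuotientGroup.mk'_apply, map_commutatorElement,
    QuotientGroup.mk'_apply, QuotientGroup.mk'_apply]
  exact commutatorElement_eq_one_iff_mul_comm.2 hq

end Fpf

end Cfsg.FpfThree
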