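import Cfsg.Agent.PGroups.FpfThree.Basic
import Cfsg.Agent.Known.AutPSLn.Sylow
import Cfsg.Agent.Known.PSLOrders

/-!
The group of order `64`, presented by two involutions and the automorphism, is unitriangular.
-/

set_option autoImplicit false
set_option linter.unusedSectionVars false

namespace Cfsg.FpfThree

open Subgroup
open scoped commutatorElement

variable {T : Type*} [Group T] [Finite T] {ρ : MulAut T}

section identities

variable (h : Fpf ρ) (hc : ∀ a b : T, ⁅a, b⁆ ∈ center T)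
include h hc

theorem comm_mul_right (a b c : T) : ⁅a, b * c⁆ = ⁅a, b⁆ * ⁅a, c⁆ := by
  have hb := (mem_center_iff.1 (hc a c)) b
  calc ⁅a, b * c⁆ = ⁅a, b⁆ * (b * ⁅a, c⁆ * b⁻¹) := by
        simp only [commutatorElement_def]; group
    _ = _ := by rw [hb, mul_inv_cancel_right]

theorem comm_mul_left (a b c : T) : ⁅a * b, c⁆ = ⁅a, c⁆ * ⁅b, c⁆ := by
  have hb := (mem_center_iff.1 (hc b c)) a
  have h1 := (mem_center_iff.1 (hc a c)) ⁅b, c⁆
  calc ⁅a * b, c⁆ = a * ⁅b, c⁆ * a⁻¹ * ⁅a, c⁆ := by simp only [commutatorElement_def]; group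
    _ = _ := by rw [hb, mul_inv_cancel_right, h1]

theorem comm_one_of_norm (a b : T) : ⁅a, b⁆ * ⁅a, ρ b⁆ * ⁅a, ρ (ρ b)⁆ = 1 := by
  rw [← comm_mul_right h hc, ← comm_mul_right h hc, h.norm_eq]
  simp

/-- `[a, ρ b] = ρ² [a, b]` and `[ρ a, b] = ρ²[a, b]`. -/
theorem comm_rho (a b : T) :
    ⁅a, ρ b⁆ = ρ (ρ ⁅a, b⁆) ∧ ⁅ρ a, b⁆ = ρ (ρ ⁅a, b⁆) := by
  set w := ⁅a, b⁆ with hw
  set p := ⁅a, ρ b⁆ with hp
  set q := ⁅ρ a, b⁆ with hq
  have hρw : ⁅ρ a, ρ b⁆ = ρ w := (map_commutatorElement ρ a b).symm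
  have hρc : ∀ z ∈ center T, ρ z ∈ center T := fun z hz =>
    h.center_invariant ▸ mem_map_of_mem _ hz
  have hwc : w ∈ center T := hc _ _
  have hpc : p ∈ center T := hc _ _
  have com : ∀ z ∈ center T, ∀ t : T, t * z = z * t := fun z hz t => mem_center_iff.1 hz t
  have h1 : w * p * ⁅a, ρ (ρ b)⁆ = 1 := comm_one_of_norm h hc a b
  have h2 : q * ρ w * ρ p = 1 := by
    have := comm_one_of_norm h hc (ρ a) b
    rwa [hρw, show ⁅ρ a, ρ (ρ b)⁆ = ρ p from (map_commutatorElement ρ a (ρ b)).symm] at this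
  have h5 : w * q * ⁅ρ (ρ a), b⁆ = 1 := by
    have := congrArg (fun t => ⁅t, b⁆) (h.norm_eq a)
    simp only [comm_mul_left h hc, commutatorElement_one_left] at this
    exact this
  have h6 : ⁅ρ (ρ a), b⁆ = ρ (ρ p) := by
    rw [hp, map_commutatorElement, map_commutatorElement, h.cube]
  rw [h6] at h5
  have hqc : q ∈ center T := hc _ _
  have hq' : q = (ρ w * ρ p)⁻¹ := eq_inv_of_mul_eq_one_left (by rw [← mul_assoc]; exact h2)
  have hkey : ρ w * ρ p = w * ρ (ρ p) := by
    rw [com q hqc w, mul_assoc] at h5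
    have := eq_inv_of_mul_eq_one_left h5
    rw [hq', inv_inj] at this
    exact this
  have hwp : w = ρ p := by
    apply h.psi_bijective.1
    show w⁻¹ * ρ w = (ρ p)⁻¹ * ρ (ρ p)
    rw [com (ρ (ρ p)) (hρc _ (hρc _ hpc)) (ρ p)⁻¹]
    calc w⁻¹ * ρ w = w⁻¹ * (ρ w * ρ p) * (ρ p)⁻¹ := by group
      _ = ρ (ρ p) * (ρ p)⁻¹ := by rw [hkey, inv_mul_cancel_left]
  have hnorm : ρ (ρ w) = (ρ w * w)⁻¹ := by
    rw [← h.commute_rho w]
    exact eq_inv_of_mul_eq_one_right (h.norm_eq w)
  exact ⟨by rw [hwp, h.cube], by rw [hq', ← hwp, hnorm]⟩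

end identities

theorem Fpf.sq (h : Fpf ρ) : Fpf (ρ * ρ) := by
  constructor
  · intro t
    show ρ (ρ (ρ (ρ (ρ (ρ t))))) = t
    rw [h.cube, h.cube]
  · intro t ht
    apply h.fpf
    have := congrArg ρ (show ρ (ρ t) = t from ht)
    rw [h.cube] at this
    exact this.symm

theorem rho_comm_sq (h : Fpf ρ) {t : T} (ht : t * t = 1) :
    ρ (ρ t) = t * ρ t ∧ t * ρ (ρ t) = ρ t ∧ ρ t * ρ (ρ t) = t := by
  have h1 : ρ t * ρ t = 1 := by rw [← map_mul, ht, map_one]
  have h2 : ρ (ρ t) = (t * ρ t)⁻¹ := eq_inv_of_mul_eq_one_right (h.norm_eq t)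
  have h3 : ρ (ρ t) = t * ρ t := by
    rw [h2, mul_inv_rev, inv_eq_of_mul_eq_one_right ht, inv_eq_of_mul_eq_one_right h1, h.commute_rho]
  refine ⟨h3, ?_, ?_⟩
  · rw [h3, ← mul_assoc, ht, one_mul]
  · rw [h3, ← mul_assoc, ← h.commute_rho, mul_assoc, h1, mul_one]

section field

variable {F : Type*} [Field F] [Fintype F]

/-- The facts on a field of four elements. -/
structure FourField (ω : F) : Prop where
  ne0 : ω ≠ 0
  ne1 : ω ≠ 1
  two : (2 : F) = 0
  cases : ∀ t : F, t = 0 ∨ t = 1 ∨ t = ω ∨ t = ω + 1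
  sq : ω * ω = ω + 1

theorem exists_fourField (hF : Fintype.card F = 4) : ∃ ω : F, FourField ω := by
  classical
  have h2 : (2 : F) = 0 := by
    have h4 : (4 : F) = 0 := by
      have := Nat.cast_card_eq_zero F
      rw [hF] at this
      exact_mod_cast this
    have : (2 : F) * 2 = 0 := by linear_combination h4
    exact mul_self_eq_zero.1 this
  obtain ⟨ω, hω0, hω1⟩ : ∃ ω : F, ω ≠ 0 ∧ ω ≠ 1 := by
    by_contra! hh
    have := Finset.card_le_card (show (Finset.univ : Finset F) ⊆ {0, 1} from fun t _ => by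
      by_cases h : t = 0
      · simp [h]
      · simp [hh t h])
    rw [Finset.card_univ, hF] at this
    exact absurd (this.trans Finset.card_le_two) (by norm_num)
  have e1 : ω + 1 ≠ 0 := fun e => hω1 (by linear_combination e - h2)
  have e2 : ω + 1 ≠ 1 := fun e => hω0 (by linear_combination e)
  have e3 : ω + 1 ≠ ω := fun e => one_ne_zero (α := F) (by linear_combination e)
  have hall : ∀ t : F, t = 0 ∨ t = 1 ∨ t = ω ∨ t = ω + 1 := by
    intro t
    have huniv : (Finset.univ : Finset F) = {0, 1, ω, ω + 1} := by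
      symm
      refine Finset.eq_of_subset_of_card_le (Finset.subset_univ _) ?_
      rw [Finset.card_insert_of_notMem (by simp [hω0.symm, e1.symm]),
        Finset.card_insert_of_notMem (by simp [hω1.symm, e2, hω0]), Finset.card_pair e3.symm,
        Finset.card_univ, hF]
    simpa using (huniv ▸ Finset.mem_univ t : t ∈ ({0, 1, ω, ω + 1} : Finset F))
  refine ⟨ω, hω0, hω1, h2, hall, ?_⟩
  rcases hall (ω * ω) with e | e | e | e
  · exact absurd (mul_self_eq_zero.1 e) hω0
  · exact absurd (show ω = 1 by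
      have : (ω + 1) * (ω + 1) = 0 := by linear_combination e + (ω + 1) * h2
      exact absurd (mul_self_eq_zero.1 this) e1) hω1
  · exact absurd (mul_left_cancel₀ hω0 (e.trans (mul_one ω).symm)) hω1
  · exact e

open scoped Classical in
/-- The homomorphism of the additive group of `F` given by an involution. -/
noncomputable def four (σ : MulAut T) (ω : F) (P : T) (t : F) : T :=
  if t = 0 then 1 else if t = 1 then P else if t = ω then σ P else σ (σ P)

variable {ω : F} (hω : FourField ω)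
include hω

theorem ne_vals : ω + 1 ≠ 0 ∧ ω + 1 ≠ 1 ∧ ω + 1 ≠ ω :=
  ⟨fun e => hω.ne1 (by linear_combination e - hω.two), fun e => hω.ne0 (by linear_combination e),
    fun e => one_ne_zero (α := F) (by linear_combination e)⟩

theorem four_vals (σ : MulAut T) (P : T) :
    four σ ω P 0 = 1 ∧ four σ ω P 1 = P ∧ four σ ω P ω = σ P ∧ four σ ω P (ω + 1) = σ (σ P) := by
  obtain ⟨e1, e2, e3⟩ := ne_vals hω
  refine ⟨by simp [four], by simp [four], by simp [four, hω.ne0, hω.ne1], by simp [four, e1, e2, e3]⟩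

theorem four_add {σ : MulAut T} (hσ : Fpf σ) {P : T} (hP : P * P = 1) (a b : F) :
    four σ ω P (a + b) = four σ ω P a * four σ ω P b := by
  obtain ⟨v0, v1, v2, v3⟩ := four_vals hω σ P
  obtain ⟨r1, r2, r3⟩ := rho_comm_sq hσ hP
  have hP' : σ P * σ P = 1 := by rw [← map_mul, hP, map_one]
  have hP'' : σ (σ P) * σ (σ P) = 1 := by rw [← map_mul, hP', map_one]
  have c1 : σ P * P = σ (σ P) := by rw [r1, hσ.commute_rho]
  have c2 : σ (σ P) * P = σ P := by rw [← c1, mul_assoc, hP, mul_one]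
  have c3 : σ (σ P) * σ P = P := by rw [r1, mul_assoc, hP', mul_one]
  have two := hω.two
  rcases hω.cases a with ha | ha | ha | ha <;> rcases hω.cases b with hb | hb | hb | hb <;>
    rw [ha, hb]
  · simp [v0]
  · simp [v0]
  · simp [v0]
  · simp [v0]
  · simp [v0]
  · rw [show (1 : F) + 1 = 0 by linear_combination two, v0, v1, hP]
  · rw [add_comm 1 ω, v3, v1, v2, r1]
  · rw [show (1 : F) + (ω + 1) = ω by linear_combination two, v2, v1, v3, r2]
  · simp [v0]
  · rw [v3, v1, v2, c1]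
  · rw [show ω + ω = 0 by linear_combination ω * two, v0, v2, hP']
  · rw [show ω + (ω + 1) = 1 by linear_combination ω * two, v1, v2, v3, r3]
  · simp [v0]
  · rw [show ω + 1 + 1 = ω by linear_combination two, v2, v1, v3, c2]
  · rw [show ω + 1 + ω = 1 by linear_combination ω * two, v1, v2, v3, c3]
  · rw [show ω + 1 + (ω + 1) = 0 by linear_combination (ω + 1) * two, v0, v3, hP'']

theorem four_mul {σ : MulAut T} (hσ : Fpf σ) (P : T) (a : F) :
    four σ ω P (ω * a) = σ (four σ ω P a) := by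
  obtain ⟨v0, v1, v2, v3⟩ := four_vals hω σ P
  rcases hω.cases a with ha | ha | ha | ha <;> rw [ha]
  · rw [mul_zero, v0, map_one]
  · rw [mul_one, v2, v1]
  · rw [hω.sq, v3, v2]
  · rw [show ω * (ω + 1) = 1 by linear_combination hω.sq + ω * hω.two, v1, v3, hσ.cube]

theorem four_eq_one {σ : MulAut T} {P : T} (hP : P ≠ 1) {a : F} (ha : four σ ω P a = 1) : a = 0 := by
  obtain ⟨v0, v1, v2, v3⟩ := four_vals hω σ P
  rcases hω.cases a with e | e | e | e
  · exact e

  all_goals rw [e] at ha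
  · exact absurd (v1.symm.trans ha) hP
  · exact absurd (σ.injective ((v2.symm.trans ha).trans (map_one σ).symm)) hP
  · exact absurd (σ.injective (σ.injective ((v3.symm.trans ha).trans ((map_one σ).symm.trans (congrArg σ (map_one σ).symm))))) hP

variable (h : Fpf ρ) (hc : ∀ a b : T, ⁅a, b⁆ ∈ center T) {u v : T} (hu : u * u = 1) (hv : v * v = 1)
include h hc hu hv

theorem comm_four (a b : F) :
    ⁅four ρ ω u a, four ρ ω v b⁆ = four (ρ * ρ) ω ⁅u, v⁆ (a * b) := by
  obtain ⟨a0, a1, a2, a3⟩ := four_vals hω ρ u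
  obtain ⟨b0, b1, b2, b3⟩ := four_vals hω ρ v
  obtain ⟨w0, w1, w2, w3⟩ := four_vals hω (ρ * ρ) ⁅u, v⁆
  have hone : ∀ b : F, ⁅u, four ρ ω v b⁆ = four (ρ * ρ) ω ⁅u, v⁆ b := by
    intro b
    rcases hω.cases b with e | e | e | e <;> rw [e]
    · rw [b0, w0, commutatorElement_one_right]
    · rw [b1, w1]
    · rw [b2, w2, (comm_rho h hc u v).1]; rfl
    · rw [b3, w3, (comm_rho h hc u (ρ v)).1, (comm_rho h hc u v).1]; rfl
  have hlin : ∀ a' : F, (∀ b, ⁅four ρ ω u a', four ρ ω v b⁆ = four (ρ * ρ) ω ⁅u, v⁆ (a' * b)) →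
      ∀ b, ⁅four ρ ω u (ω * a'), four ρ ω v b⁆ = four (ρ * ρ) ω ⁅u, v⁆ (ω * a' * b) := by
    intro a' ih b
    rw [four_mul hω h, (comm_rho h hc _ _).2, ih, mul_assoc, four_mul hω h.sq]
    rfl
  have hone' : ∀ b, ⁅four ρ ω u 1, four ρ ω v b⁆ = four (ρ * ρ) ω ⁅u, v⁆ (1 * b) := fun b => by
    rw [a1, one_mul, hone]
  rcases hω.cases a with e | e | e | e <;> rw [e]
  · rw [a0, zero_mul, w0, commutatorElement_one_left]
  · exact hone' b
  · simpa using hlin 1 hone' b
  · have h2 := hlin ω (fun b => by simpa using hlin 1 hone' b) b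
    rwa [hω.sq] at h2

end field

open Cfsg.Lib.Known in
/-- Two involutions with non-trivial commutator give the unitriangular group. -/
theorem exists_iso_sylow (h : Fpf ρ) (hc : ∀ a b : T, ⁅a, b⁆ ∈ center T) (hT : Nat.card T = 64)
    {u v : T} (hu : u * u = 1) (hv : v * v = 1) (huv : ⁅u, v⁆ ≠ 1)
    {F : Type} [Field F] [Fintype F] (hF : Fintype.card F = 4) :
    ∃ S : Sylow 2 (Matrix.ProjectiveSpecialLinearGroup (Fin 3) F),
      Nonempty (T ≃* ↥(S : Subgroup (Matrix.ProjectiveSpecialLinearGroup (Fin 3) F))) := by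
  classical
  haveI : Fact (Nat.Prime 2) := ⟨Nat.prime_two⟩
  obtain ⟨ω, hω⟩ := exists_fourField hF
  haveI : CharP F 2 := CharTwo.of_one_ne_zero_of_two_eq_zero one_ne_zero hω.two
  set w := ⁅u, v⁆ with hw
  have hww : w * w = 1 := by
    rw [hw, ← comm_mul_left h hc, hu, commutatorElement_one_left]
  set f := four ρ ω u with hf
  set g := four ρ ω v with hg
  set k := four (ρ * ρ) ω w with hk
  have kc : ∀ c, k c ∈ center T := by
    intro c
    obtain ⟨w0, w1, w2, w3⟩ := four_vals hω (ρ * ρ) w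
    have hρc : ∀ z ∈ center T, (ρ * ρ) z ∈ center T := fun z hz =>
      h.center_invariant ▸ mem_map_of_mem _ (h.center_invariant ▸ mem_map_of_mem _ hz)
    rcases hω.cases c with e | e | e | e <;> rw [e]
    · rw [hk, w0]; exact one_mem _
    · rw [hk, w1]; exact hc u v
    · rw [hk, w2]; exact hρc _ (hc u v)
    · rw [hk, w3]; exact hρc _ (hρc _ (hc u v))
  obtain ⟨Q, hQ⟩ := AutPSLn.exists_sylow_upperUni (F := F) (n := 3) 2
  let U := (Q : Subgroup (Matrix.SpecialLinearGroup (Fin 3) F))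
  have hU : ∀ M : U, AutPSLn.IsUpperUni ((M : Matrix.SpecialLinearGroup (Fin 3) F) : Matrix (Fin 3) (Fin 3) F) :=
    fun M => by
      have hM : (M : Matrix.SpecialLinearGroup (Fin 3) F) ∈ (Q : Subgroup _) := M.2
      rw [hQ] at hM
      exact hM
  let A : U → F := fun M => ((M : Matrix.SpecialLinearGroup (Fin 3) F) : Matrix (Fin 3) (Fin 3) F) 0 1
  let B : U → F := fun M => ((M : Matrix.SpecialLinearGroup (Fin 3) F) : Matrix (Fin 3) (Fin 3) F) 1 2
  let C : U → F := fun M => ((M : Matrix.SpecialLinearGroup (Fin 3) F) : Matrix (Fin 3) (Fin 3) F) 0 2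
  have hentry : ∀ M : U, ∀ i j : Fin 3, j ≤ i →
      ((M : Matrix.SpecialLinearGroup (Fin 3) F) : Matrix (Fin 3) (Fin 3) F) i j = if i = j then 1 else 0 :=
    fun M => hU M
  have hmul : ∀ M N : U, A (M * N) = A M + A N ∧ B (M * N) = B M + B N ∧
      C (M * N) = C M + C N + A M * B N := by
    intro M N
    have p1 := hentry M
    have p2 := hentry N
    simp only [A, B, C, Subgroup.coe_mul, Matrix.SpecialLinearGroup.coe_mul, Matrix.mul_apply, Fin.sum_univ_three,
      p1 0 0 le_rfl, p1 1 0 (by decide), p1 1 1 le_rfl, p2 1 1 le_rfl, p2 2 1 (by decide), p2 2 2 le_rfl,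
      if_true, show (1 : Fin 3) ≠ 0 from by decide, show (2 : Fin 3) ≠ 1 from by decide, if_false]
    refine ⟨by ring, by ring, by ring⟩
  let Ψ : U →* T :=
    MonoidHom.mk' (fun M => g (B M) * f (A M) * k (C M)) fun M N => by
      obtain ⟨eA, eB, eC⟩ := hmul M N
      rw [eA, eB, eC]
      simp only [hf, hg, hk, four_add hω h hu, four_add hω h hv, four_add hω h.sq hww]
      simp only [← hf, ← hg, ← hk]
      have hcf : f (A M) * g (B N) = g (B N) * f (A M) * k (A M * B N) := by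
        have hcm := comm_four hω h hc hu hv (A M) (B N)
        rw [← hf, ← hg, ← hk] at hcm
        rw [(mem_center_iff.1 (kc (A M * B N))) (g (B N) * f (A M)), ← hcm, commutatorElement_def]
        group
      have z1 : ∀ t, t * k (C M) = k (C M) * t := fun t => mem_center_iff.1 (kc _) t
      have z2 : ∀ t, t * k (A M * B N) = k (A M * B N) * t := fun t => mem_center_iff.1 (kc _) t
      symm
      calc g (B M) * f (A M) * k (C M) * (g (B N) * f (A N) * k (C N))
          = g (B M) * (f (A M) * g (B N)) * f (A N) * k (C M) * k (C N) := by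
            rw [mul_assoc (g (B M) * f (A M)) (k (C M)), ← mul_assoc (k (C M)), ← z1]
            group
        _ = g (B M) * g (B N) * f (A M) * (k (A M * B N) * f (A N)) * k (C M) * k (C N) := by
            rw [hcf]; group
        _ = g (B M) * g (B N) * (f (A M) * f (A N)) * (k (C M) * k (C N) * k (A M * B N)) := by
            rw [← z2, z2 (k (C M) * k (C N))]; group
  have hinj : Function.Injective Ψ := by
    rw [injective_iff_map_eq_one]
    intro M hM
    change g (B M) * f (A M) * k (C M) = 1 at hM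
    have hgf : g (B M) * f (A M) = (k (C M))⁻¹ := eq_inv_of_mul_eq_one_left hM
    have hgc : g (B M) * f (A M) ∈ center T := hgf ▸ inv_mem (kc _)
    have hB : B M = 0 := by
      have e : ⁅f 1, g (B M) * f (A M)⁆ = 1 :=
        commutatorElement_eq_one_iff_mul_comm.2 (mem_center_iff.1 hgc _)
      rw [comm_mul_right h hc, comm_four hω h hc hu hv, one_mul] at e
      have e0 : ⁅f 1, f (A M)⁆ = 1 := commutatorElement_eq_one_iff_mul_comm.2 (by
        rw [hf, ← four_add hω h hu, add_comm, four_add hω h hu])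
      rw [e0, mul_one] at e
      exact four_eq_one hω huv e
    have hA : A M = 0 := by
      obtain ⟨v0, -, -, -⟩ := four_vals hω ρ v
      rw [hB, hg, v0, one_mul] at hgc
      have e : ⁅f (A M), g 1⁆ = 1 :=
        commutatorElement_eq_one_iff_mul_comm.2 ((mem_center_iff.1 hgc (g 1)).symm)
      rw [comm_four hω h hc hu hv, mul_one] at e
      exact four_eq_one hω huv e
    have hC : C M = 0 := by
      obtain ⟨v0, -, -, -⟩ := four_vals hω ρ v
      obtain ⟨u0, -, -, -⟩ := four_vals hω ρ u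
      rw [hA, hB, hf, hg, u0, v0, one_mul, one_mul] at hM
      exact four_eq_one hω huv hM
    refine Subtype.ext (Subtype.ext (Matrix.ext fun i j => ?_))
    show ((M : Matrix.SpecialLinearGroup (Fin 3) F) : Matrix (Fin 3) (Fin 3) F) i j = (1 : Matrix (Fin 3) (Fin 3) F) i j
    rcases le_or_gt j i with hji | hij
    · rw [hentry M i j hji, Matrix.one_apply]
    · rw [Matrix.one_apply, if_neg hij.ne]
      fin_cases i <;> fin_cases j <;> simp_all [A, B, C]
  have hcard : Nat.card U = Nat.card T := by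
    show Nat.card (Q : Subgroup (Matrix.SpecialLinearGroup (Fin 3) F)) = _
    rw [hQ, AutPSLn.card_upperUni, hF, hT]; norm_num
  have hsurj : Function.Surjective Ψ := ((Nat.bijective_iff_injective_and_card Ψ).2 ⟨hinj, hcard⟩).2
  let e : U ≃* T := MulEquiv.ofBijective Ψ ⟨hinj, hsurj⟩
  set π := QuotientGroup.mk' (center (Matrix.SpecialLinearGroup (Fin 3) F)) with hπ
  have hπinj : Function.Injective (π.domRestrict U) := by
    rw [injective_iff_map_eq_one]
    intro M hM
    have hM' : (M : Matrix.SpecialLinearGroup (Fin 3) F) ∈ center _ := (QuotientGroup.eq_one_iff _).1 hM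
    obtain ⟨c, -, hc'⟩ := Matrix.SpecialLinearGroup.mem_center_iff.1 hM'
    have h0 := hentry M 0 0 le_rfl
    rw [← hc'] at h0
    simp at h0
    refine Subtype.ext (Subtype.ext ?_)
    rw [← hc', h0]
    simp
  refine ⟨Sylow.mapSurjective (f := π) (QuotientGroup.mk'_surjective _) Q, ⟨e.symm.trans ?_⟩⟩
  exact ((MonoidHom.ofInjective hπinj).trans (MulEquiv.subgroupCongr (by
    rw [Sylow.coe_mapSurjective, MonoidHom.domRestrict_range])))

end Cfsg.FpfThree
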